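import Groth.Agent.SuppCoh.HomAlg
import Groth.Agent.LocCohLib.Seq
import Groth.Agent.BCVertLib.EtaleBC
import Groth.Agent.TateShLib.Local

/-!
Sections with support and etale restriction.
-/

set_option autoImplicit false
set_option backward.isDefEq.respectTransparency false
set_option backward.isDefEq.respectTransparency.types false
set_option maxHeartbeats 1000000

universe u

open CategoryTheory CategoryTheory.Limits AlgebraicGeometry Opposite

noncomputable section

namespace Groth.Agent.SuppCoh

section Square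

variable {X U X' U' : Scheme.{u}} (j : U ⟶ X) (g : X' ⟶ X) (j' : U' ⟶ X') (g' : U' ⟶ U)

/-- The square isomorphism of direct images. -/
def pushSq (w : g' ≫ j = j' ≫ g) : EtCoh.push g' ⋙ EtCoh.push j ≅ EtCoh.push j' ⋙ EtCoh.push g :=
  EtCoh.pushComp j g' ≪≫ EtCoh.pushCongr w ≪≫ (EtCoh.pushComp g j').symm

/-- The square isomorphism of inverse images. -/
def pullSq (w : g' ≫ j = j' ≫ g) : EtCoh.pull g ⋙ EtCoh.pull j' ≅ EtCoh.pull j ⋙ EtCoh.pull g' :=
  ((EtCoh.pullPushAdj g).comp (EtCoh.pullPushAdj j')).leftAdjointUniq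
    (((EtCoh.pullPushAdj j).comp (EtCoh.pullPushAdj g')).ofNatIsoRight (pushSq j g j' g' w))

theorem map_unit_baseChange0 (w : g' ≫ j = j' ≫ g) (F : EtCoh.Ab X) :
    (EtCoh.pull g).map (EtDual.unitApp j F) ≫
        EtCoh.baseChange0 j g j' g' w ((EtCoh.pull j).obj F) =
      EtDual.unitApp j' ((EtCoh.pull g).obj F) ≫ (EtCoh.push j').map ((pullSq j g j' g' w).hom.app F) := by
  apply ((EtCoh.pullPushAdj g).homEquiv _ _).injective
  rw [Adjunction.homEquiv_naturality_left, EtCoh.baseChange0, Equiv.apply_symm_apply,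
    Adjunction.homEquiv_unit, Functor.map_comp]
  have h := Adjunction.unit_leftAdjointUniq_hom_app
    ((EtCoh.pullPushAdj g).comp (EtCoh.pullPushAdj j'))
    (((EtCoh.pullPushAdj j).comp (EtCoh.pullPushAdj g')).ofNatIsoRight (pushSq j g j' g' w)) F
  rw [Adjunction.comp_unit_app, Adjunction.ofNatIsoRight_unit] at h
  simp only [NatTrans.comp_app, Functor.whiskerLeft_app, Adjunction.comp_unit_app] at h
  refine Eq.trans ?_ ((Category.assoc _ _ _).symm.trans h).symm
  simp only [pushSq, Iso.trans_hom, Iso.symm_hom, NatTrans.comp_app, Category.assoc]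
  rfl

variable [IsOpenImmersion j] [AlgebraicGeometry.Etale g]

/-- Inverse image of the kernel of the unit. -/
def secSuppPullIso (h : IsPullback g' j' j g) (F : EtCoh.Ab X) :
    (EtCoh.pull g).obj ((EtDual.secSupp j).obj F) ≅ (EtDual.secSupp j').obj ((EtCoh.pull g).obj F) :=
  haveI : PreservesFiniteLimits (EtCoh.pull g) := S0101.result g
  haveI : (EtCoh.pull g).Additive := (EtCoh.pullPushAdj g).left_adjoint_additive
  haveI := BCVertLib.isIso_baseChange0_etale j g j' g' h ((EtCoh.pull j).obj F)
  PreservesKernel.iso (EtCoh.pull g) (EtDual.unitApp j F) ≪≫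
    kernel.mapIso _ _ (Iso.refl _)
      (asIso (EtCoh.baseChange0 j g j' g' h.w ((EtCoh.pull j).obj F)) ≪≫
        (EtCoh.push j').mapIso ((pullSq j g j' g' h.w).app F).symm) (by
        simp only [Iso.trans_hom, asIso_hom, Functor.mapIso_hom, Iso.symm_hom, Iso.app_inv, Iso.refl_hom,
          Category.id_comp, ← Category.assoc, map_unit_baseChange0]
        rw [Category.assoc, ← Functor.map_comp, Iso.hom_inv_id_app]
        erw [CategoryTheory.Functor.map_id]
        exact Category.comp_id _)

theorem secSuppPullIso_hom_ι (h : IsPullback g' j' j g) (F : EtCoh.Ab X) :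
    (secSuppPullIso j g j' g' h F).hom ≫ kernel.ι (EtDual.unitApp j' ((EtCoh.pull g).obj F)) =
      (EtCoh.pull g).map (kernel.ι (EtDual.unitApp j F)) := by
  simp [secSuppPullIso, kernel.mapIso]

/-- Sections with support commute with etale restriction. -/
def secSuppPullNatIso (h : IsPullback g' j' j g) :
    EtDual.secSupp j ⋙ EtCoh.pull g ≅ EtCoh.pull g ⋙ EtDual.secSupp j' :=
  NatIso.ofComponents (secSuppPullIso j g j' g' h) (fun {F G} a => by
    apply (cancel_mono (kernel.ι (EtDual.unitApp j' ((EtCoh.pull g).obj G)))).1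
    simp only [Functor.comp_map, Category.assoc, secSuppPullIso_hom_ι, kernel.lift_ι, kernel.map,
      ← Functor.map_comp]
    rw [← Category.assoc]
    erw [secSuppPullIso_hom_ι]
    rw [← Functor.map_comp])

include g' in
/-- Local cohomology sheaves commute with etale restriction. -/
theorem nonempty_locCoh_pull (h : IsPullback g' j' j g) (p : ℕ) (F : EtCoh.Ab X) :
    Nonempty ((EtCoh.pull g).obj ((EtDual.locCoh j p).obj F) ≅
      (EtDual.locCoh j' p).obj ((EtCoh.pull g).obj F)) := by
  haveI : PreservesFiniteLimits (EtCoh.pull g) := S0101.result g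
  haveI : (EtCoh.pull g).Additive := (EtCoh.pullPushAdj g).left_adjoint_additive
  haveI : PreservesFiniteColimits (EtCoh.pull g) := by
    haveI : PreservesColimitsOfSize.{0, 0} (EtCoh.pull g) := (EtCoh.pullPushAdj g).leftAdjoint_preservesColimits
    exact PreservesColimitsOfSize.preservesFiniteColimits _
  let R : InjectiveResolution F := InjectiveResolution.of F
  let R' : InjectiveResolution ((EtCoh.pull g).obj F) :=
    { cocomplex := ((EtCoh.pull g).mapHomologicalComplex (ComplexShape.up ℕ)).obj R.cocomplex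
      injective := fun i => BCVertLib.injective_pull_etale g (R.cocomplex.X i)
      ι := (HomologicalComplex.singleMapHomologicalComplex (EtCoh.pull g) (ComplexShape.up ℕ) 0).inv.app F ≫
        ((EtCoh.pull g).mapHomologicalComplex (ComplexShape.up ℕ)).map R.ι
      quasiIso := inferInstance }
  let K := ((EtDual.secSupp j).mapHomologicalComplex (ComplexShape.up ℕ)).obj R.cocomplex
  let ec : ((EtCoh.pull g).mapHomologicalComplex (ComplexShape.up ℕ)).obj K ≅
      ((EtDual.secSupp j').mapHomologicalComplex (ComplexShape.up ℕ)).obj R'.cocomplex :=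
    (NatIso.mapHomologicalComplex (secSuppPullNatIso j g j' g' h) (ComplexShape.up ℕ)).app R.cocomplex
  exact ⟨(EtCoh.pull g).mapIso (R.isoRightDerivedObj (EtDual.secSupp j) p) ≪≫
    ((K.sc p).mapHomologyIso (EtCoh.pull g)).symm ≪≫ HomologicalComplex.homologyMapIso ec p ≪≫
    (R'.isoRightDerivedObj (EtDual.secSupp j') p).symm⟩

end Square

/-- Inverse image along a surjection reflects zero objects. -/
theorem isZero_of_isZero_pull {X X' : Scheme.{u}} (g : X' ⟶ X) [AlgebraicGeometry.Etale g] [Surjective g]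
    (F : EtCoh.Ab X) (h : IsZero ((EtCoh.pull g).obj F)) : IsZero F := by
  haveI : EtShriek.JCont g := EtJCont.jCont g
  have h1 : IsZero ((EtShriek.restrAlong g).obj F) := h.of_iso ((EtPtsLib.pullIsoRestr g).app F).symm
  rw [IsZero.iff_id_eq_zero] at h1 ⊢
  apply CategoryTheory.Sheaf.hom_ext
  ext ⟨W⟩
  let p : (EtShriek.compEtale g).obj ((EtCoh.bc g).obj W) ⟶ W := (EtPtsLib.compBcAdj g).counit.app W
  have hS : Sieve.generate (Presieve.singleton p) ∈ X.smallEtaleTopology W := by
    rw [show X.smallEtaleTopology =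
        (X.smallPretopology (P := EtCoh.etaleMP) (Q := EtCoh.etaleMP)).toGrothendieck from
      Scheme.smallGrothendieckTopology_eq_toGrothendieck_smallPretopology X le_rfl]
    refine (Scheme.mem_toGrothendieck_smallPretopology W _).2 fun x => ?_
    have e : p.left = pullback.fst W.hom g := Category.id_comp _
    haveI : Surjective p.left := by rw [e]; infer_instance
    obtain ⟨y, hy⟩ := p.left.surjective x
    exact ⟨_, p, y, Sieve.le_generate _ _ _ (Presieve.singleton.mk), by rw [e]; infer_instance, hy⟩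
  rename_i s
  refine (Presheaf.IsSheaf.isSeparated F.property) W _ hS _ _ ?_
  intro V q hq
  obtain ⟨_, a, _, ⟨⟩, rfl⟩ := hq
  have h2 : (F.obj.map p.op).hom s = 0 := ConcreteCategory.congr_hom
    (NatTrans.congr_app (congrArg (fun t => ((sheafToPresheaf _ _).map t)) h1) (op ((EtCoh.bc g).obj W))) _
  show (F.obj.map (a ≫ p).op).hom s = (F.obj.map (a ≫ p).op).hom 0
  rw [op_comp, F.obj.map_comp]
  exact (congrArg (F.obj.map a.op).hom h2).trans (by simp)

/-- Vanishing of local cohomology sheaves is etale local on the base. -/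
theorem isZero_locCoh_tate {X U : Scheme.{u}} (j : U ⟶ X) [IsOpenImmersion j] (n : ℕ)
    (hn : IsUnit (n : Γ(X, ⊤))) (d p : ℕ)
    (h : IsZero ((EtDual.locCoh j p).obj (EtCoh.const X (ZMod n)))) :
    IsZero ((EtDual.locCoh j p).obj (EtDual.tate X n d)) := by
  obtain ⟨X', g, hg, hs, ⟨e⟩⟩ := TateShLib.exists_cover_tate X n hn d
  haveI := hg
  haveI := hs
  have hp := IsPullback.of_hasPullback j g
  obtain ⟨a⟩ := nonempty_locCoh_pull j g _ _ hp p (EtDual.tate X n d)
  obtain ⟨b⟩ := nonempty_locCoh_pull j g _ _ hp p (EtCoh.const X (ZMod n))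
  haveI : (EtCoh.pull g).Additive := (EtCoh.pullPushAdj g).left_adjoint_additive
  exact isZero_of_isZero_pull g _
    (((EtCoh.pull g).map_isZero h).of_iso
      (a ≪≫ (EtDual.locCoh (pullback.snd j g) p).mapIso e ≪≫ b.symm))

end Groth.Agent.SuppCoh
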