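import Groth.Agent.SuppCoh.Groups

/-!
Etale excision.
-/

set_option autoImplicit false
set_option backward.isDefEq.respectTransparency false
set_option backward.isDefEq.respectTransparency.types false
set_option maxHeartbeats 1000000

universe u

open CategoryTheory CategoryTheory.Limits AlgebraicGeometry Opposite

noncomputable section

namespace Groth.Agent.SuppCoh

variable {X U : Scheme.{u}} (j : U ⟶ X) [IsOpenImmersion j]

/-- The open subscheme as an object of the small etale site. -/
abbrev openObj : X.Etale := Scheme.Etale.mk j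

theorem isZero_pull_secSupp (G : EtCoh.Ab X) : IsZero ((EtCoh.pull j).obj ((EtDual.secSupp j).obj G)) := by
  haveI : PreservesFiniteLimits (EtCoh.pull j) := S0101.result j
  haveI : (EtCoh.pull j).Additive := (EtCoh.pullPushAdj j).left_adjoint_additive
  haveI : IsSplitMono ((EtCoh.pull j).map (EtDual.unitApp j G)) :=
    IsSplitMono.mk' ⟨(EtCoh.pullPushAdj j).counit.app _, (EtCoh.pullPushAdj j).left_triangle_components G⟩
  have h0 : (EtCoh.pull j).map (kernel.ι (EtDual.unitApp j G)) = 0 := by
    rw [← cancel_mono ((EtCoh.pull j).map (EtDual.unitApp j G)), zero_comp, ← Functor.map_comp,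
      kernel.condition, Functor.map_zero]
  haveI : Mono ((EtCoh.pull j).map (kernel.ι (EtDual.unitApp j G))) := inferInstance
  exact IsZero.of_mono_eq_zero _ h0

/-- A sheaf with zero restriction to `U` has no sections over etale schemes over `U`. -/
theorem sect_eq_zero {H : EtCoh.Ab X} (hH : IsZero ((EtCoh.pull j).obj H)) {W : X.Etale}
    (a : W ⟶ openObj j) (s : H.obj.obj (op W)) : s = 0 := by
  haveI : EtShriek.JCont j := EtJCont.jCont j
  have h1 : IsZero ((EtShriek.restrAlong j).obj H) := hH.of_iso ((EtPtsLib.pullIsoRestr j).app H).symm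
  haveI : AlgebraicGeometry.Etale W.hom := W.prop
  have ha : a.left ≫ j = W.hom := MorphismProperty.Over.w a
  haveI : AlgebraicGeometry.Etale (a.left ≫ j) := by rw [ha]; infer_instance
  haveI : AlgebraicGeometry.Etale (a.left : W.left ⟶ U) := AlgebraicGeometry.Etale.of_comp a.left j
  let W' : U.Etale := Scheme.Etale.mk (a.left : W.left ⟶ U)
  let e : (EtShriek.compEtale j).obj W' ⟶ W := MorphismProperty.Over.homMk (𝟙 _) (by
    change 𝟙 _ ≫ W.hom = a.left ≫ j
    rw [Category.id_comp, ha])
  let e' : W ⟶ (EtShriek.compEtale j).obj W' := MorphismProperty.Over.homMk (𝟙 _) (by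
    change 𝟙 _ ≫ a.left ≫ j = W.hom
    rw [Category.id_comp, ha])
  rw [IsZero.iff_id_eq_zero] at h1
  have h2 : (H.obj.map e.op).hom s = 0 := ConcreteCategory.congr_hom
    (NatTrans.congr_app (congrArg (fun t => ((sheafToPresheaf _ _).map t)) h1) (op W')) _
  have h3 := congrArg (H.obj.map e'.op).hom h2
  rw [map_zero, ← ConcreteCategory.comp_apply, ← Functor.map_comp, ← op_comp,
    show e' ≫ e = 𝟙 W from MorphismProperty.Over.Hom.ext (Category.id_comp _), op_id,
    CategoryTheory.Functor.map_id] at h3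
  exact h3

variable (P : X.Etale) (hinj : Set.InjOn P.hom.base (P.hom.base ⁻¹' (Set.range j.base)ᶜ))
  (hκ : ∀ x : P.left, P.hom.base x ∉ Set.range j.base → Function.Surjective (P.hom.residueFieldMap x))

/-- Two points in the special fibre with trivial residue field extension agree. -/
theorem fromSpecResidueField_comp_eq {W : Scheme.{u}} (a b : W ⟶ P.left) (hab : a ≫ P.hom = b ≫ P.hom)
    (w : W) (h : a.base w = b.base w) (hκ : Function.Surjective (P.hom.residueFieldMap (a.base w))) :
    W.fromSpecResidueField w ≫ a = W.fromSpecResidueField w ≫ b := by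
  let x := a.base w
  haveI : IsIso (P.hom.residueFieldMap x) :=
    (ConcreteCategory.isIso_iff_bijective _).2 ⟨RingHom.injective _, hκ⟩
  haveI : Mono (P.left.fromSpecResidueField x ≫ P.hom) := by
    rw [← Scheme.Hom.SpecMap_residueFieldMap_fromSpecResidueField]
    infer_instance
  have ha : ∃ α, α ≫ P.left.fromSpecResidueField x = W.fromSpecResidueField w ≫ a :=
    ⟨_, Scheme.Hom.SpecMap_residueFieldMap_fromSpecResidueField a w⟩
  have hb : ∃ β, β ≫ P.left.fromSpecResidueField x = W.fromSpecResidueField w ≫ b := by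
    have hb' : ∃ β, β ≫ P.left.fromSpecResidueField (b.base w) = W.fromSpecResidueField w ≫ b :=
      ⟨_, Scheme.Hom.SpecMap_residueFieldMap_fromSpecResidueField b w⟩
    rw [← h] at hb'
    exact hb'
  obtain ⟨α, hα⟩ := ha
  obtain ⟨β, hβ⟩ := hb
  have : α = β := by
    rw [← cancel_mono (P.left.fromSpecResidueField x ≫ P.hom), reassoc_of% hα, reassoc_of% hβ, hab]
  rw [← hα, ← hβ, this]

include hinj hκ in
/-- The two restrictions of a section agree. -/
theorem map_eq_map {H : EtCoh.Ab X} (hH : IsZero ((EtCoh.pull j).obj H)) {W : X.Etale} (a b : W ⟶ P)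
    (t : H.obj.obj (op P)) : (H.obj.map a.op).hom t = (H.obj.map b.op).hom t := by
  haveI : AlgebraicGeometry.Etale W.hom := W.prop
  haveI : AlgebraicGeometry.Etale P.hom := P.prop
  have ha : a.left ≫ P.hom = W.hom := MorphismProperty.Over.w a
  have hb : b.left ≫ P.hom = W.hom := MorphismProperty.Over.w b
  let l : W.left ⟶ pullback P.hom P.hom := pullback.lift a.left b.left (ha.trans hb.symm)
  let E : W.left.Opens := l ⁻¹ᵁ (pullback.diagonal P.hom).opensRange
  let V : W.left.Opens := W.hom ⁻¹ᵁ j.opensRange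
  have cov : ∀ w : W.left, w ∈ E ∨ w ∈ V := fun w => by
    by_cases hw : W.hom.base w ∈ Set.range j.base
    · exact Or.inr hw
    refine Or.inl ?_
    have hax : P.hom.base (a.left.base w) = W.hom.base w := by rw [← ha]; rfl
    have hbx : P.hom.base (b.left.base w) = W.hom.base w := by rw [← hb]; rfl
    have hab : a.left.base w = b.left.base w :=
      hinj (show P.hom.base (a.left.base w) ∉ _ by rw [hax]; exact hw)
        (show P.hom.base (b.left.base w) ∉ _ by rw [hbx]; exact hw) (hax.trans hbx.symm)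
    have heq := fromSpecResidueField_comp_eq P a.left b.left (ha.trans hb.symm) w hab
      (hκ _ (by rw [hax]; exact hw))
    have hl : W.left.fromSpecResidueField w ≫ l =
        W.left.fromSpecResidueField w ≫ a.left ≫ pullback.diagonal P.hom := by
      apply pullback.hom_ext
      · simp [l]
      · simp [l, heq]
    refine ⟨a.left.base w, ?_⟩
    have h := congrArg (fun m : Spec _ ⟶ _ => m.base (IsLocalRing.closedPoint _)) hl
    simpa [Scheme.fromSpecResidueField_apply] using h.symm
  let ιE : Scheme.Etale.mk (E.ι ≫ W.hom) ⟶ W := MorphismProperty.Over.homMk E.ι rfl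
  let ιV : Scheme.Etale.mk (V.ι ≫ W.hom) ⟶ W := MorphismProperty.Over.homMk V.ι rfl
  have hE : E.ι ≫ a.left = E.ι ≫ b.left := by
    have hr : Set.range (E.ι ≫ l).base ⊆ Set.range (pullback.diagonal P.hom).base := by
      rintro _ ⟨e, rfl⟩
      exact e.2
    let m := IsOpenImmersion.lift (pullback.diagonal P.hom) (E.ι ≫ l) hr
    have hm : m ≫ pullback.diagonal P.hom = E.ι ≫ l := IsOpenImmersion.lift_fac _ _ hr
    have h1 := congrArg (· ≫ pullback.fst P.hom P.hom) hm
    have h2 := congrArg (· ≫ pullback.snd P.hom P.hom) hm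
    simp [l] at h1 h2
    rw [← h1, ← h2]
  have hV : Set.range (V.ι ≫ W.hom).base ⊆ Set.range j.base := by
    rintro _ ⟨e, rfl⟩
    exact e.2
  let v : Scheme.Etale.mk (V.ι ≫ W.hom) ⟶ openObj j :=
    MorphismProperty.Over.homMk (IsOpenImmersion.lift j (V.ι ≫ W.hom) hV) (IsOpenImmersion.lift_fac _ _ hV)
  have hS : Sieve.generate (Presieve.singleton ιE ⊔ Presieve.singleton ιV) ∈ X.smallEtaleTopology W := by
    rw [show X.smallEtaleTopology =
        (X.smallPretopology (P := EtCoh.etaleMP) (Q := EtCoh.etaleMP)).toGrothendieck from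
      Scheme.smallGrothendieckTopology_eq_toGrothendieck_smallPretopology X le_rfl]
    refine (Scheme.mem_toGrothendieck_smallPretopology W _).2 fun w => ?_
    rcases cov w with hw | hw
    · exact ⟨_, ιE, ⟨w, hw⟩, Sieve.le_generate _ _ _ (Or.inl Presieve.singleton.mk),
        inferInstanceAs (AlgebraicGeometry.Etale E.ι), rfl⟩
    · exact ⟨_, ιV, ⟨w, hw⟩, Sieve.le_generate _ _ _ (Or.inr Presieve.singleton.mk),
        inferInstanceAs (AlgebraicGeometry.Etale V.ι), rfl⟩
  refine (Presheaf.IsSheaf.isSeparated H.property) W _ hS _ _ ?_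
  intro T q hq
  obtain ⟨Q, c, d, hd, rfl⟩ := hq
  rw [op_comp, H.obj.map_comp, ← ConcreteCategory.comp_apply, ← ConcreteCategory.comp_apply,
    ← Category.assoc, ← Category.assoc]
  refine congrArg (H.obj.map c.op).hom ?_
  change (H.obj.map a.op ≫ H.obj.map d.op).hom t = (H.obj.map b.op ≫ H.obj.map d.op).hom t
  rcases hd with hd | hd <;> obtain ⟨⟩ := hd
  · rw [← H.obj.map_comp, ← H.obj.map_comp, ← op_comp, ← op_comp,
      show ιE ≫ a = ιE ≫ b from MorphismProperty.Over.Hom.ext hE]
  · exact (sect_eq_zero j hH v _).trans (sect_eq_zero j hH v _).symm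

include hinj hκ in
/-- Sections with support restrict bijectively. -/
theorem bijective_map {H : EtCoh.Ab X} (hH : IsZero ((EtCoh.pull j).obj H)) (p : P ⟶ EtCoh.top X)
    (hsurj : (Set.range j.base)ᶜ ⊆ Set.range P.hom.base) :
    Function.Bijective (H.obj.map p.op).hom := by
  let q : openObj j ⟶ EtCoh.top X := MorphismProperty.Over.homMk j (Category.comp_id _)
  let Y : Bool → X.Etale := fun i => if i then P else openObj j
  let π : ∀ i, Y i ⟶ EtCoh.top X := Bool.rec q p
  haveI : AlgebraicGeometry.Etale P.hom := P.prop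
  have hp : p.left = P.hom := (Category.comp_id _).symm.trans (MorphismProperty.Over.w p)
  have hS : Sieve.ofArrows Y π ∈ X.smallEtaleTopology (EtCoh.top X) := by
    rw [show X.smallEtaleTopology =
        (X.smallPretopology (P := EtCoh.etaleMP) (Q := EtCoh.etaleMP)).toGrothendieck from
      Scheme.smallGrothendieckTopology_eq_toGrothendieck_smallPretopology X le_rfl]
    refine (Scheme.mem_toGrothendieck_smallPretopology _ _).2 fun x => ?_
    by_cases hx : x ∈ Set.range j.base
    · obtain ⟨u, hu⟩ := hx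
      exact ⟨_, π false, u, Sieve.ofArrows_mk _ _ false, inferInstanceAs (AlgebraicGeometry.Etale j), hu⟩
    · obtain ⟨y, hy⟩ := hsurj hx
      refine ⟨_, π true, y, Sieve.ofArrows_mk _ _ true, ?_, ?_⟩
      · change AlgebraicGeometry.Etale p.left
        rw [hp]; infer_instance
      · change p.left.base y = x
        rw [hp]; exact hy
  have hsh : Presieve.IsSheafFor (H.obj ⋙ CategoryTheory.forget AddCommGrpCat.{u + 1}) (Presieve.ofArrows Y π) :=
    Presieve.isSheafFor_iff_generate _ |>.2
      (((isSheaf_iff_isSheaf_of_type _ _).1 ((Presheaf.isSheaf_iff_isSheaf_forget _ _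
        (CategoryTheory.forget AddCommGrpCat.{u + 1})).1 H.property)) _ hS)
  refine ⟨(injective_iff_map_eq_zero _).2 fun s hs => ?_, fun t => ?_⟩
  · refine (hsh.isSeparatedFor).ext fun T f hf => ?_
    obtain ⟨i⟩ := hf
    cases i
    · exact (sect_eq_zero j hH (𝟙 (openObj j)) ((H.obj.map q.op).hom s)).trans
        (sect_eq_zero j hH (𝟙 (openObj j)) ((H.obj.map q.op).hom 0)).symm
    · exact hs.trans (map_zero (H.obj.map p.op).hom).symm
  · let x : ∀ i, (H.obj ⋙ CategoryTheory.forget AddCommGrpCat.{u + 1}).obj (op (Y i)) := Bool.rec (0 : H.obj.obj (op (openObj j))) t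
    have hx : Presieve.Arrows.Compatible (H.obj ⋙ CategoryTheory.forget AddCommGrpCat.{u + 1}) π x := by
      rintro (_ | _) (_ | _) T gi gj -
      · exact (sect_eq_zero j hH gi _).trans (sect_eq_zero j hH gi _).symm
      · exact (sect_eq_zero j hH gi _).trans (sect_eq_zero j hH gi _).symm
      · exact (sect_eq_zero j hH gj _).trans (sect_eq_zero j hH gj _).symm
      · exact map_eq_map j P hinj hκ hH gi gj t
    obtain ⟨s, hs, -⟩ := (Presieve.isSheafFor_arrows_iff _ _).1 hsh x hx
    exact ⟨s, hs true⟩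

/-- The restriction map along an etale morphism, on global sections. -/
def restrGs {X' : Scheme.{u}} (f : X' ⟶ X) : gs X ⟶ EtCoh.pull f ⋙ gs X' :=
  Functor.whiskerRight (EtCoh.pullPushAdj f).unit (gs X) ≫
    (Functor.isoWhiskerLeft (EtCoh.pull f) (EtCore.pushGsecIso f)).hom

theorem isIso_restrGs_app {X' U' : Scheme.{u}} (f : X' ⟶ X) [AlgebraicGeometry.Etale f] (j' : U' ⟶ X')
    (hU' : Set.range j'.base = f.base ⁻¹' Set.range j.base)
    (hZ : Set.BijOn f.base (Set.range j'.base)ᶜ (Set.range j.base)ᶜ)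
    (hκ : ∀ x' : ↥X', x' ∉ Set.range j'.base → Function.Surjective (f.residueFieldMap x'))
    {H : EtCoh.Ab X} (hH : IsZero ((EtCoh.pull j).obj H)) :
    IsIso ((restrGs f).app H) := by
  haveI : EtShriek.JCont f := EtJCont.jCont f
  let T := (EtCoh.bc f).obj (EtCoh.top X)
  let P : X.Etale := (EtShriek.compEtale f).obj T
  haveI : IsIso T.hom := by
    change IsIso (pullback.snd (𝟙 X) f)
    infer_instance
  have hP : P.hom = T.hom ≫ f := rfl
  have hbij : Function.Bijective T.hom.base := (TopCat.homeoOfIso (asIso T.hom.base)).bijective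
  have hmem : ∀ y : P.left, P.hom.base y ∉ Set.range j.base → T.hom.base y ∈ (Set.range j'.base)ᶜ := fun y hy h => by
    rw [hU'] at h
    exact hy h
  have hb := bijective_map j P
    (fun y hy z hz h => hbij.1 (hZ.injOn (hmem y hy) (hmem z hz) h))
    (fun y hy => by
      have h1 := hκ _ (hmem y hy)
      have h2 : Function.Surjective (T.hom.residueFieldMap y) := by
        haveI : IsIso (T.hom.residueFieldMap y) := inferInstance
        exact (ConcreteCategory.bijective_of_isIso _).2
      change Function.Surjective ((T.hom ≫ f).residueFieldMap y)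
      rw [Scheme.residueFieldMap_comp]
      exact h2.comp h1)
    hH ((EtPtsLib.compBcAdj f).counit.app (EtCoh.top X))
    (fun x hx => by
      obtain ⟨x', -, rfl⟩ := hZ.surjOn hx
      obtain ⟨y, rfl⟩ := hbij.2 x'
      exact ⟨y, rfl⟩)
  let e := (EtPtsLib.pullIsoRestr f).app H
  have key : (EtCoh.pullPushAdj f).unit.app H ≫ (EtCoh.push f).map e.hom =
      (EtPtsLib.restrPushAdj f).unit.app H :=
    Adjunction.unit_leftAdjointUniq_hom_app (EtCoh.pullPushAdj f) (EtPtsLib.restrPushAdj f) H
  haveI : IsIso ((gs X).map ((EtPtsLib.restrPushAdj f).unit.app H)) :=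
    (ConcreteCategory.isIso_iff_bijective _).2 hb
  haveI : IsIso ((gs X).map ((EtCoh.pullPushAdj f).unit.app H)) := by
    haveI : IsIso ((gs X).map ((EtCoh.pullPushAdj f).unit.app H) ≫ (gs X).map ((EtCoh.push f).map e.hom)) := by
      rw [← Functor.map_comp, key]
      infer_instance
    exact IsIso.of_isIso_comp_right _ ((gs X).map ((EtCoh.push f).map e.hom))
  simp only [restrGs, NatTrans.comp_app, Functor.whiskerRight_app]
  infer_instance

/-- Etale excision for local cohomology groups. -/
theorem nonempty_HY_iso_pull {X' U' : Scheme.{u}} (f : X' ⟶ X) [AlgebraicGeometry.Etale f] (j' : U' ⟶ X')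
    [IsOpenImmersion j']
    (hU' : Set.range j'.base = f.base ⁻¹' Set.range j.base)
    (hZ : Set.BijOn f.base (Set.range j'.base)ᶜ (Set.range j.base)ᶜ)
    (hκ : ∀ x' : ↥X', x' ∉ Set.range j'.base → Function.Surjective (f.residueFieldMap x'))
    (F : EtCoh.Ab X) (r : ℕ) :
    Nonempty ((EtDual.HY j r).obj F ≅ (EtDual.HY j' r).obj ((EtCoh.pull f).obj F)) := by
  haveI : PreservesFiniteLimits (EtCoh.pull f) := S0101.result f
  haveI : (EtCoh.pull f).Additive := (EtCoh.pullPushAdj f).left_adjoint_additive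
  haveI : PreservesFiniteColimits (EtCoh.pull f) := EtCore.pull_preservesFiniteColimits f
  have hr : Set.range (j' ≫ f).base ⊆ Set.range j.base := by
    rintro _ ⟨u, rfl⟩
    have : j'.base u ∈ f.base ⁻¹' Set.range j.base := hU' ▸ Set.mem_range_self u
    exact this
  have hp : IsPullback (IsOpenImmersion.lift j (j' ≫ f) hr) j' j f := by
    refine ⟨⟨IsOpenImmersion.lift_fac _ _ hr⟩, ⟨PullbackCone.IsLimit.mk _
      (fun c => IsOpenImmersion.lift j' c.snd ?_) (fun c => ?_) (fun c => IsOpenImmersion.lift_fac _ _ _)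
      (fun c m h1 h2 => ?_)⟩⟩
    · rintro _ ⟨t, rfl⟩
      rw [hU']
      exact ⟨c.fst.base t, congrArg (fun m => m.base t) c.condition⟩
    · rw [← cancel_mono j, Category.assoc, IsOpenImmersion.lift_fac, IsOpenImmersion.lift_fac_assoc, c.condition]
    · rw [← cancel_mono j', h2, IsOpenImmersion.lift_fac]
  let τ₀ : EtDual.secSupp j ⋙ gs X ⟶ EtDual.secSupp j ⋙ EtCoh.pull f ⋙ gs X' :=
    Functor.whiskerLeft (EtDual.secSupp j) (restrGs f)
  haveI : ∀ G, IsIso (τ₀.app G) := fun G => isIso_restrGs_app j f j' hU' hZ hκ (isZero_pull_secSupp j G)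
  haveI : IsIso τ₀ := NatIso.isIso_of_isIso_app _
  let τ : EtDual.gammaSupp j ≅ EtCoh.pull f ⋙ EtDual.gammaSupp j' :=
    asIso τ₀ ≪≫ Functor.isoWhiskerRight (secSuppPullNatIso j f j' _ hp) (gs X')
  let R : InjectiveResolution F := InjectiveResolution.of F
  let R' : InjectiveResolution ((EtCoh.pull f).obj F) :=
    { cocomplex := ((EtCoh.pull f).mapHomologicalComplex (ComplexShape.up ℕ)).obj R.cocomplex
      injective := fun i => BCVertLib.injective_pull_etale f (R.cocomplex.X i)
      ι := (HomologicalComplex.singleMapHomologicalComplex (EtCoh.pull f) (ComplexShape.up ℕ) 0).inv.app F ≫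
        ((EtCoh.pull f).mapHomologicalComplex (ComplexShape.up ℕ)).map R.ι
      quasiIso := inferInstance }
  let e : ((EtDual.gammaSupp j).mapHomologicalComplex (ComplexShape.up ℕ)).obj R.cocomplex ≅
      ((EtDual.gammaSupp j').mapHomologicalComplex (ComplexShape.up ℕ)).obj R'.cocomplex :=
    (NatIso.mapHomologicalComplex τ (ComplexShape.up ℕ)).app R.cocomplex
  exact ⟨R.isoRightDerivedObj (EtDual.gammaSupp j) r ≪≫ HomologicalComplex.homologyMapIso e r ≪≫
    (R'.isoRightDerivedObj (EtDual.gammaSupp j') r).symm⟩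

end Groth.Agent.SuppCoh
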