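import Groth.Agent.SuppCoh.Etale
import Groth.Agent.FLCLib.Ops
import Groth.Agent.AffCritLib.Acyclic
import Groth.Prelude.Def_EtCore
import Groth.Prelude.Def_EtDepth

/-!
Depth of finite locally constant torsion sheaves from depth of `ℤ/ℓ`.
-/

set_option autoImplicit false
set_option backward.isDefEq.respectTransparency false
set_option backward.isDefEq.respectTransparency.types false
set_option maxHeartbeats 1000000

universe u

open CategoryTheory CategoryTheory.Limits AlgebraicGeometry Opposite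
open Groth.Agent.EtPtsLib Groth.Agent.FLCLib

noncomputable section

namespace Groth.Agent.SuppCoh

variable {X U : Scheme.{u}}

/-- A sheaf with sections giving every germ once over the whole scheme is constant. -/
theorem nonempty_iso_constantSheaf {F : EtCoh.Ab X} {M : AddCommGrpCat.{u + 1}}
    {θ : M ⟶ F.obj.obj (op (EtCoh.top X))} (hθ : IsConstOn F (EtCoh.top X) θ) :
    Nonempty ((constantSheaf X.smallEtaleTopology AddCommGrpCat.{u + 1}).obj M ≅ F) := by
  let η : (Functor.const X.Etaleᵒᵖ).obj M ⟶ F.obj :=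
    { app := fun V => θ ≫ F.obj.map ((EtCore.topIsTerminal X).from V.unop).op
      naturality := fun V W g => by
        change 𝟙 M ≫ θ ≫ F.obj.map _ = (θ ≫ F.obj.map _) ≫ F.obj.map g
        rw [Category.id_comp, Category.assoc, ← Functor.map_comp, ← g.op_unop, ← op_comp]
        exact congrArg (fun q => θ ≫ F.obj.map (Quiver.Hom.op q)) ((EtCore.topIsTerminal X).hom_ext _ _) }
  let φ : (constantSheaf X.smallEtaleTopology AddCommGrpCat.{u + 1}).obj M ⟶ F :=
    ((sheafificationAdjunction X.smallEtaleTopology AddCommGrpCat.{u + 1}).homEquiv _ _).symm η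
  have hφ : ∀ V : X.Etale, cst M V ≫ φ.hom.app (op V) = η.app (op V) := fun V => by
    have h := ((sheafificationAdjunction X.smallEtaleTopology AddCommGrpCat.{u + 1}).homEquiv _ _).apply_symm_apply η
    rw [Adjunction.homEquiv_unit] at h
    exact NatTrans.congr_app h (op V)
  haveI : IsIso φ := FLCLib.isIso_of_stalk φ fun Ω _ _ ξ => (ConcreteCategory.isIso_iff_bijective _).2 <| by
    obtain ⟨l, -⟩ : ∃ l : (Scheme.pointSmallEtale ξ).fiber.obj (EtCoh.top X), True :=
      ⟨Over.homMk ξ (Category.comp_id _), trivial⟩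
    have e : (fun m : M => germ ξ F l (θ m)) = (EtCoh.stalk ξ).map φ ∘
        fun m : M => germ ξ ((constantSheaf X.smallEtaleTopology AddCommGrpCat.{u + 1}).obj M) l
          (cst M (EtCoh.top X) m) := funext fun m => by
      refine Eq.trans ?_ ((Scheme.pointSmallEtale ξ).toPresheafFiber_naturality_apply φ.hom (EtCoh.top X) l
        (cst M (EtCoh.top X) m)).symm
      refine congrArg (germ ξ F l) (Eq.trans ?_ (ConcreteCategory.congr_hom (hφ (EtCoh.top X)) m).symm)
      change θ m = (θ ≫ F.obj.map ((EtCore.topIsTerminal X).from (EtCoh.top X)).op) m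
      rw [(EtCore.topIsTerminal X).from_self, op_id, CategoryTheory.Functor.map_id, Category.comp_id]
    exact (Function.Bijective.of_comp_iff _ (germ_cst_bijective ξ M l)).1 (e ▸ hθ Ω ξ l)
  exact ⟨asIso φ⟩

variable (j : U ⟶ X) [IsOpenImmersion j]

omit [IsOpenImmersion j] in
theorem isZero_locCoh_of_isZero (p : ℕ) {F : EtCoh.Ab X} (hF : IsZero F) :
    IsZero ((EtDual.locCoh j p).obj F) := by
  haveI := hF.injective
  let R := InjectiveResolution.self F
  have hK : ∀ i, IsZero ((((EtDual.secSupp j).mapHomologicalComplex (ComplexShape.up ℕ)).obj R.cocomplex).X i) := by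
    rintro (_ | i)
    · exact (EtDual.secSupp j).map_isZero hF
    · exact (EtDual.secSupp j).map_isZero (HomologicalComplex.isZero_single_obj_X _ 0 F _ (by omega))
  refine ((ShortComplex.exact_iff_isZero_homology _).1 (ShortComplex.exact_of_isZero_X₂
    ((((EtDual.secSupp j).mapHomologicalComplex (ComplexShape.up ℕ)).obj R.cocomplex).sc p) (hK p))).of_iso (R.isoRightDerivedObj (EtDual.secSupp j) p)

theorem isZero_locCoh_constantSheaf (ℓ : ℕ) (hℓ : ℓ.Prime) (p : ℕ)
    (h : IsZero ((EtDual.locCoh j p).obj (EtCoh.const X (ZMod ℓ)))) :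
    ∀ (n : ℕ) (M : AddCommGrpCat.{u + 1}) [Finite M], Nat.card M = n → (∀ m : M, ∃ k, ℓ ^ k • m = 0) →
      IsZero ((EtDual.locCoh j p).obj ((constantSheaf X.smallEtaleTopology AddCommGrpCat.{u + 1}).obj M)) := by
  haveI : (constantSheaf X.smallEtaleTopology AddCommGrpCat.{u + 1}).Additive :=
    (EtCore.constAdj X).left_adjoint_additive
  haveI : PreservesFiniteLimits (constantSheaf X.smallEtaleTopology AddCommGrpCat.{u + 1}) := by
    unfold constantSheaf; infer_instance
  haveI : PreservesFiniteColimits (constantSheaf X.smallEtaleTopology AddCommGrpCat.{u + 1}) := by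
    unfold constantSheaf; infer_instance
  intro n
  induction n using Nat.strong_induction_on with
  | _ n ih =>
    intro M _ hn hM
    rcases subsingleton_or_nontrivial M with hs | hs
    · exact isZero_locCoh_of_isZero j p (Functor.map_isZero _ (AddCommGrpCat.isZero_iff_subsingleton.2 hs))
    obtain ⟨m₀, hm₀⟩ := exists_ne (0 : M)
    obtain ⟨x, hx0, hx⟩ : ∃ x : M, x ≠ 0 ∧ ℓ • x = 0 := by
      obtain ⟨k, hk⟩ := hM m₀
      induction k with
      | zero => exact absurd (by simpa using hk) hm₀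
      | succ k ihk =>
        by_cases h0 : ℓ ^ k • m₀ = 0
        · exact ihk h0
        · exact ⟨_, h0, by rw [← mul_nsmul', ← pow_succ']; exact hk⟩
    haveI : Fact ℓ.Prime := ⟨hℓ⟩
    let a : ZMod ℓ →+ M := ZMod.lift ℓ ⟨zmultiplesHom M x, by simpa using hx⟩
    have ha : Function.Injective a := by
      refine (ZMod.lift_injective _).2 fun m hm => ?_
      rw [zmultiplesHom_apply] at hm
      exact (ZMod.intCast_zmod_eq_zero_iff_dvd _ _).2
        (addOrderOf_eq_prime hx hx0 ▸ addOrderOf_dvd_iff_zsmul_eq_zero.2 hm)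
    let i : AddCommGrpCat.of (ULift.{u + 1} (ZMod ℓ)) ⟶ M :=
      AddCommGrpCat.ofHom (a.comp AddEquiv.ulift.toAddMonoidHom)
    haveI : Mono i := (AddCommGrpCat.mono_iff_injective i).2 (ha.comp AddEquiv.ulift.injective)
    let Q := AddCommGrpCat.of (↥M ⧸ a.range)
    let π : M ⟶ Q := AddCommGrpCat.ofHom (QuotientAddGroup.mk' a.range)
    haveI : Epi π := (AddCommGrpCat.epi_iff_surjective π).2 (QuotientAddGroup.mk'_surjective _)
    let S := ShortComplex.mk i π (AddCommGrpCat.hom_ext (AddMonoidHom.ext fun z =>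
      (QuotientAddGroup.eq_zero_iff _).2 ⟨z.down, rfl⟩))
    have hS : S.ShortExact := ⟨(ShortComplex.ab_exact_iff S).2 fun m hm => by
      obtain ⟨z, hz⟩ := (QuotientAddGroup.eq_zero_iff m).1 hm
      exact ⟨⟨z⟩, hz⟩⟩
    refine AffCritLib.isZero_rightDerived_mid (EtDual.secSupp j)
      (hS.map_of_exact (constantSheaf X.smallEtaleTopology AddCommGrpCat.{u + 1})) p h ?_
    haveI : Finite (↥M ⧸ a.range) := Finite.of_surjective _ (QuotientAddGroup.mk'_surjective a.range)
    refine ih (Nat.card (↥M ⧸ a.range)) ?_ Q rfl fun z => ?_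
    · rw [← hn, AddSubgroup.card_eq_card_quotient_mul_card_addSubgroup a.range]
      refine lt_mul_of_one_lt_right Nat.card_pos ?_
      rw [← Nat.card_congr (AddMonoidHom.ofInjective ha).toEquiv, Nat.card_zmod]
      exact hℓ.one_lt
    · obtain ⟨m, rfl⟩ := QuotientAddGroup.mk'_surjective a.range z
      obtain ⟨c, hcm⟩ := hM m
      exact ⟨c, by rw [← map_nsmul, hcm, map_zero]⟩

/-- Finite locally constant `ℓ`-torsion sheaves inherit the depth of `ℤ/ℓ`. -/
theorem isZero_locCoh_of_finiteLocallyConstant (ℓ : ℕ) (hℓ : ℓ.Prime) (p : ℕ)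
    (h : IsZero ((EtDual.locCoh j p).obj (EtCoh.const X (ZMod ℓ)))) (F : EtCoh.Ab X)
    (hF : EtCoh.IsFiniteLocallyConstant F) (hFt : EtDepth.IsLTorsion ℓ F) :
    IsZero ((EtDual.locCoh j p).obj F) := by
  refine (isZero_iff_ab _).2 fun Ω _ _ ξ => ?_
  obtain ⟨W, M, θ, hW, hM, hθ⟩ := (finiteLocallyConstant_iff F).1 hF (ξ default)
  obtain ⟨w, hw⟩ := hW
  obtain ⟨l, hl⟩ := Scheme.pointSmallEtaleFiberObjToPreimage_surjective ξ rfl W ⟨w, hw⟩
  haveI : Finite M := hM
  let g := W.hom
  haveI : AlgebraicGeometry.Etale g := W.prop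
  -- torsion
  have htor : ∀ m : M, ∃ k, ℓ ^ k • m = 0 := fun m => by
    obtain ⟨V, a, ⟨v, hv⟩, k, hk⟩ := hFt W (θ m) w
    obtain ⟨l', -⟩ := Scheme.pointSmallEtaleFiberObjToPreimage_surjective (geomPt (V.hom v))
      (geomPt_default _) V ⟨v, by simp⟩
    refine ⟨k, (hθ _ (geomPt (V.hom v)) ((Scheme.pointSmallEtale (geomPt (V.hom v))).fiber.map a l')).1 ?_⟩
    let G := (Scheme.pointSmallEtale (geomPt (V.hom v))).fiber.map a l'
    show germ (geomPt (V.hom v)) F G (θ (ℓ ^ k • m)) = germ (geomPt (V.hom v)) F G (θ 0)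
    rw [map_nsmul, map_zero]
    refine (germ_map (geomPt (V.hom v)) F a l' (ℓ ^ k • θ m)).symm.trans
      (Eq.trans ?_ (germ_map (geomPt (V.hom v)) F a l' 0))
    exact congrArg (germ (geomPt (V.hom v)) F l') (((map_nsmul _ _ _).trans hk).trans (map_zero _).symm)
  -- pull back is constant
  let δ : EtCoh.top W.left ⟶ (EtCoh.bc g).obj W := MorphismProperty.Over.homMk (pullback.lift (𝟙 _) (𝟙 _) rfl)
    (pullback.lift_snd _ _ _)
  obtain ⟨eF⟩ := nonempty_iso_constantSheaf ((hθ.pull g).map δ)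
  haveI : (EtCoh.pull g).Additive := (EtCoh.pullPushAdj g).left_adjoint_additive
  have hp := IsPullback.of_hasPullback j g
  obtain ⟨a⟩ := nonempty_locCoh_pull j g _ _ hp p F
  obtain ⟨b⟩ := nonempty_locCoh_pull j g _ _ hp p (EtCoh.const X (ZMod ℓ))
  have h' : IsZero ((EtDual.locCoh (pullback.snd j g) p).obj (EtCoh.const W.left (ZMod ℓ))) :=
    (((EtCoh.pull g).map_isZero h).of_iso b.symm).of_iso
      ((EtDual.locCoh (pullback.snd j g) p).mapIso (EtCore.pullConst g (ZMod ℓ)).symm)
  have hz : IsZero ((EtCoh.pull g).obj ((EtDual.locCoh j p).obj F)) :=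
    (isZero_locCoh_constantSheaf (pullback.snd j g) ℓ hℓ p h' _ M rfl htor).of_iso
      (a ≪≫ (EtDual.locCoh (pullback.snd j g) p).mapIso eF.symm)
  have hzl : IsZero ((EtCoh.stalk (liftHom ξ l ≫ g)).obj ((EtDual.locCoh j p).obj F)) :=
    ((EtCoh.stalk (liftHom ξ l)).map_isZero hz).of_iso
      ((stalkPullIso g (liftHom ξ l)).app _).symm
  rwa [liftHom_comp ξ l] at hzl

end Groth.Agent.SuppCoh
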