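import Groth.Agent.SuppCoh.Etale
import Groth.Prelude.Def_EtCore

/-!
Local cohomology groups from local cohomology sheaves.
-/

set_option autoImplicit false
set_option backward.isDefEq.respectTransparency false
set_option backward.isDefEq.respectTransparency.types false
set_option maxHeartbeats 1000000

universe u

open CategoryTheory CategoryTheory.Limits AlgebraicGeometry Opposite

noncomputable section

namespace Groth.Agent.SuppCoh

variable {X U : Scheme.{u}} (j : U ⟶ X) [IsOpenImmersion j]

/-- Global sections. -/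
abbrev gs (X : Scheme.{u}) : EtCoh.Ab X ⥤ AddCommGrpCat.{u + 1} :=
  sheafToPresheaf X.smallEtaleTopology AddCommGrpCat.{u + 1} ⋙
    (evaluation X.Etaleᵒᵖ AddCommGrpCat.{u + 1}).obj (op (EtCoh.top X))

/-- Sections with support of an injective sheaf form an injective sheaf. -/
theorem injective_secSupp (I : EtCoh.Ab X) [Injective I] : Injective ((EtDual.secSupp j).obj I) := by
  haveI := LocCohLib.isSplitEpi_unitApp j I
  let r : I ⟶ kernel (EtDual.unitApp j I) :=
    kernel.lift _ (𝟙 I - EtDual.unitApp j I ≫ section_ (EtDual.unitApp j I)) (by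
      simp [Preadditive.sub_comp])
  have hr : kernel.ι (EtDual.unitApp j I) ≫ r = 𝟙 _ := by
    apply (cancel_mono (kernel.ι (EtDual.unitApp j I))).1
    simp [r, Preadditive.comp_sub, kernel.condition_assoc]
  exact ⟨fun {Y Z} a i hi => ⟨Injective.factorThru (a ≫ kernel.ι _) i ≫ r, by
    rw [Injective.comp_factorThru_assoc, Category.assoc, hr, Category.comp_id]⟩⟩

instance additive_gs : (gs X).Additive := by unfold gs; infer_instance

instance preservesFiniteLimits_gs : PreservesFiniteLimits (gs X) := by unfold gs; infer_instance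

/-- The degree of the first nonvanishing local cohomology sheaf. -/
theorem nonempty_homology_gs_iso {F : EtCoh.Ab X} (R : InjectiveResolution F) (N : ℕ)
    (h : ∀ p < N, IsZero ((EtDual.locCoh j p).obj F)) :
    Nonempty ((((gs X).mapHomologicalComplex (ComplexShape.up ℕ)).obj
        (((EtDual.secSupp j).mapHomologicalComplex (ComplexShape.up ℕ)).obj R.cocomplex)).homology N ≅
      (gs X).obj ((EtDual.locCoh j N).obj F)) := by
  haveI : ∀ i, Injective ((((EtDual.secSupp j).mapHomologicalComplex (ComplexShape.up ℕ)).obj R.cocomplex).X i) :=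
    fun i => injective_secSupp j (R.cocomplex.X i)
  obtain ⟨e⟩ := nonempty_homology_map_iso _ N
    (fun p hp => (h p hp).of_iso (R.isoRightDerivedObj (EtDual.secSupp j) p).symm) (gs X)
  exact ⟨e ≪≫ (gs X).mapIso (R.isoRightDerivedObj (EtDual.secSupp j) N).symm⟩

/-- Semipurity identifies the local cohomology group with sections of the local cohomology sheaf. -/
theorem nonempty_HY_iso_sections (F : EtCoh.Ab X) (N : ℕ)
    (h : ∀ p < N, IsZero ((EtDual.locCoh j p).obj F)) :
    Nonempty ((EtDual.HY j N).obj F ≅ (gs X).obj ((EtDual.locCoh j N).obj F)) := by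
  obtain ⟨e⟩ := nonempty_homology_gs_iso j (InjectiveResolution.of F) N h
  exact ⟨(InjectiveResolution.of F).isoRightDerivedObj (EtDual.gammaSupp j) N ≪≫ e⟩

section Closed

variable {X' : Scheme.{u}} (k' : X' ⟶ X) [IsOpenImmersion k'] (j' : U ⟶ X') [IsOpenImmersion j']
  (hfac : j' ≫ k' = j)

include hfac in
theorem kernel_ι_unit_eq_zero (G : EtCoh.Ab X) :
    kernel.ι (EtDual.unitApp k' G) ≫ EtDual.unitApp j G = 0 := by
  let adj := ((EtCoh.pullPushAdj k').comp (EtCoh.pullPushAdj j')).ofNatIsoRight
    (EtCoh.pushComp k' j' ≪≫ EtCoh.pushCongr hfac)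
  have h : adj.unit.app G ≫ (EtCoh.push j).map ((adj.leftAdjointUniq (EtCoh.pullPushAdj j)).hom.app G) =
      EtDual.unitApp j G :=
    Adjunction.unit_leftAdjointUniq_hom_app adj (EtCoh.pullPushAdj j) G
  have h' : kernel.ι (EtDual.unitApp k' G) ≫ adj.unit.app G = 0 := by
    simp only [adj, Adjunction.ofNatIsoRight_unit, Adjunction.comp_unit_app, NatTrans.comp_app,
      Functor.whiskerLeft_app, Category.assoc]
    erw [kernel.condition_assoc]
    exact zero_comp
  rw [← h, reassoc_of% h', zero_comp]

/-- Sections supported on the smaller closed set. -/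
def secSuppMap (G : EtCoh.Ab X) : (EtDual.secSupp k').obj ((EtDual.secSupp j).obj G) ⟶ (EtDual.secSupp k').obj G :=
  (EtDual.secSupp k').map (kernel.ι (EtDual.unitApp j G))

include hfac in
theorem isIso_secSuppMap (G : EtCoh.Ab X) : IsIso (secSuppMap j k' G) := by
  let a : (EtDual.secSupp k').obj G ⟶ (EtDual.secSupp j).obj G :=
    kernel.lift _ (kernel.ι (EtDual.unitApp k' G)) (kernel_ι_unit_eq_zero j k' j' hfac G)
  haveI : Mono ((EtCoh.push k').map ((EtCoh.pull k').map (kernel.ι (EtDual.unitApp j G)))) := by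
    haveI : PreservesFiniteLimits (EtCoh.pull k') := S0101.result k'
    haveI : (EtCoh.push k').IsRightAdjoint := (EtCoh.pullPushAdj k').isRightAdjoint
    infer_instance
  let b : (EtDual.secSupp k').obj G ⟶ (EtDual.secSupp k').obj ((EtDual.secSupp j).obj G) :=
    kernel.lift _ a (by
      apply (cancel_mono ((EtCoh.push k').map ((EtCoh.pull k').map (kernel.ι (EtDual.unitApp j G))))).1
      rw [Category.assoc, zero_comp]
      have hn : kernel.ι (EtDual.unitApp j G) ≫ EtDual.unitApp k' G =
          EtDual.unitApp k' _ ≫ (EtCoh.push k').map ((EtCoh.pull k').map (kernel.ι (EtDual.unitApp j G))) :=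
        (EtCoh.pullPushAdj k').unit.naturality (kernel.ι (EtDual.unitApp j G))
      rw [← hn]
      simp [a])
  have h1 : secSuppMap j k' G ≫ kernel.ι (EtDual.unitApp k' G) =
      kernel.ι (EtDual.unitApp k' ((EtDual.secSupp j).obj G)) ≫ kernel.ι (EtDual.unitApp j G) :=
    kernel.lift_ι _ _ _
  have h2 : b ≫ kernel.ι (EtDual.unitApp k' ((EtDual.secSupp j).obj G)) = a := kernel.lift_ι _ _ _
  refine ⟨b, ?_, ?_⟩
  · apply (cancel_mono (kernel.ι (EtDual.unitApp k' ((EtDual.secSupp j).obj G)))).1
    apply (cancel_mono (kernel.ι (EtDual.unitApp j G))).1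
    simp only [Category.assoc, reassoc_of% h2, a, kernel.lift_ι, h1, Category.id_comp]
  · apply (cancel_mono (kernel.ι (EtDual.unitApp k' G))).1
    rw [Category.assoc, h1, reassoc_of% h2, Category.id_comp]
    exact kernel.lift_ι _ _ _

/-- `Γ_Z Γ_Y = Γ_Z` for `Z ⊆ Y`. -/
def secSuppCompIso : EtDual.secSupp j ⋙ EtDual.secSupp k' ≅ EtDual.secSupp k' :=
  NatIso.ofComponents (fun G =>
      haveI := isIso_secSuppMap j k' j' hfac G
      asIso (secSuppMap j k' G))
    (fun {G H} f => by
      show (EtDual.secSupp k').map ((EtDual.secSupp j).map f) ≫ (EtDual.secSupp k').map (kernel.ι _) =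
        (EtDual.secSupp k').map (kernel.ι _) ≫ (EtDual.secSupp k').map f
      rw [← Functor.map_comp, ← Functor.map_comp]
      exact congrArg (EtDual.secSupp k').map (kernel.lift_ι _ _ _))

/-- The functor `G ↦ k'_* k'^* G`. -/
abbrev pp : EtCoh.Ab X ⥤ EtCoh.Ab X := EtCoh.pull k' ⋙ EtCoh.push k'

include hfac in
/-- Excision of a closed subset with vanishing local cohomology. -/
theorem nonempty_HY_iso_of_vanishing (F : EtCoh.Ab X) (N : ℕ)
    (h : ∀ p ≤ N + 1, IsZero ((EtDual.locCoh k' p).obj F)) :
    Nonempty ((EtDual.HY j N).obj F ≅ (EtDual.HY j' N).obj ((EtCoh.pull k').obj F)) := by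
  haveI : PreservesFiniteLimits (EtCoh.pull k') := S0101.result k'
  haveI : (EtCoh.push k').Additive := (EtCoh.pullPushAdj k').right_adjoint_additive
  haveI : (EtCoh.pull k').Additive := (EtCoh.pullPushAdj k').left_adjoint_additive
  haveI : PreservesFiniteColimits (EtCoh.pull k') := EtCore.pull_preservesFiniteColimits k'
  let R : InjectiveResolution F := InjectiveResolution.of F
  let R' : InjectiveResolution ((EtCoh.pull k').obj F) :=
    { cocomplex := ((EtCoh.pull k').mapHomologicalComplex (ComplexShape.up ℕ)).obj R.cocomplex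
      injective := fun i => BCVertLib.injective_pull_etale k' (R.cocomplex.X i)
      ι := (HomologicalComplex.singleMapHomologicalComplex (EtCoh.pull k') (ComplexShape.up ℕ) 0).inv.app F ≫
        ((EtCoh.pull k').mapHomologicalComplex (ComplexShape.up ℕ)).map R.ι
      quasiIso := inferInstance }
  let K := ((EtDual.secSupp j).mapHomologicalComplex (ComplexShape.up ℕ)).obj R.cocomplex
  let K₁ := ((EtDual.secSupp k').mapHomologicalComplex (ComplexShape.up ℕ)).obj K
  let K₃ := ((pp k').mapHomologicalComplex (ComplexShape.up ℕ)).obj K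
  let G := (gs X).mapHomologicalComplex (ComplexShape.up ℕ)
  let inc : K₁ ⟶ K :=
    { f := fun i => kernel.ι _
      comm' := fun i k _ => (kernel.lift_ι _ _ _).symm }
  let res : K ⟶ K₃ :=
    { f := fun i => EtDual.unitApp k' (K.X i)
      comm' := fun i k _ => ((EtCoh.pullPushAdj k').unit.naturality (K.d i k)).symm }
  have w : inc ≫ res = 0 := HomologicalComplex.hom_ext _ _ fun i => kernel.condition _
  have hS : ((ShortComplex.mk inc res w).map G).ShortExact :=
    HomologicalComplex.shortExact_of_degreewise_shortExact _ fun i => by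
      haveI := injective_secSupp j (R.cocomplex.X i)
      haveI : Injective (K.X i) := injective_secSupp j (R.cocomplex.X i)
      haveI := LocCohLib.isSplitEpi_unitApp k' (K.X i)
      exact
        { exact := ShortComplex.exact_of_f_is_kernel _
            (KernelFork.mapIsLimit _ (kernelIsKernel (EtDual.unitApp k' (K.X i))) (gs X))
          mono_f := inferInstanceAs (Mono ((gs X).map (kernel.ι (EtDual.unitApp k' (K.X i)))))
          epi_g := inferInstanceAs (Epi ((gs X).map (EtDual.unitApp k' (K.X i)))) }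
  have hz : ∀ p ≤ N + 1, IsZero ((G.obj K₁).homology p) := fun p hp => by
    obtain ⟨e⟩ := nonempty_homology_gs_iso k' R p (fun q hq => h q (by omega))
    let ec : G.obj K₁ ≅ G.obj (((EtDual.secSupp k').mapHomologicalComplex (ComplexShape.up ℕ)).obj R.cocomplex) :=
      G.mapIso ((NatIso.mapHomologicalComplex (secSuppCompIso j k' j' hfac) (ComplexShape.up ℕ)).app R.cocomplex)
    exact ((gs X).map_isZero (h p hp)).of_iso (HomologicalComplex.homologyMapIso ec p ≪≫ e)
  let φ := HomologicalComplex.homologyMap (G.map res) N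
  haveI : Mono φ := (hS.homology_exact₂ N).mono_g ((hz N (by omega)).eq_of_src _ _)
  haveI : Epi φ := (hS.homology_exact₃ N (N + 1) rfl).epi_f ((hz (N + 1) le_rfl).eq_of_tgt _ _)
  haveI : IsIso φ := isIso_of_mono_of_epi _
  have hp : IsPullback (𝟙 U) j' j k' :=
    ⟨⟨by rw [Category.id_comp, hfac]⟩, ⟨PullbackCone.IsLimit.mk _ (fun c => c.fst) (fun c => Category.comp_id _)
      (fun c => by rw [← cancel_mono k', Category.assoc, hfac, c.condition])
      (fun c m h1 _ => (Category.comp_id m).symm.trans h1)⟩⟩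
  let τ : EtDual.secSupp j ⋙ pp k' ⋙ gs X ≅ EtCoh.pull k' ⋙ EtDual.gammaSupp j' :=
    Functor.isoWhiskerLeft (EtDual.secSupp j) (Functor.isoWhiskerLeft (EtCoh.pull k') (EtCore.pushGsecIso k')) ≪≫
      Functor.isoWhiskerRight (secSuppPullNatIso j k' j' (𝟙 U) hp) (gs X')
  let e₃ : G.obj K₃ ≅ ((EtDual.gammaSupp j').mapHomologicalComplex (ComplexShape.up ℕ)).obj R'.cocomplex :=
    (NatIso.mapHomologicalComplex τ (ComplexShape.up ℕ)).app R.cocomplex
  exact ⟨R.isoRightDerivedObj (EtDual.gammaSupp j) N ≪≫ asIso φ ≪≫ HomologicalComplex.homologyMapIso e₃ N ≪≫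
    (R'.isoRightDerivedObj (EtDual.gammaSupp j') N).symm⟩

end Closed

/-- Tate twists restrict to Tate twists. -/
theorem nonempty_pull_tate {X X' : Scheme.{u}} (g : X' ⟶ X) [AlgebraicGeometry.Etale g] (n d : ℕ) :
    Nonempty ((EtCoh.pull g).obj (EtDual.tate X n d) ≅ EtDual.tate X' n d) := by
  suffices Nonempty ((EtShriek.restrAlong g).obj (EtDual.tate X n d) ≅ EtDual.tate X' n d) by
    obtain ⟨e⟩ := this
    exact ⟨(EtPtsLib.pullIsoRestr g).app _ ≪≫ e⟩
  induction d with
  | zero => exact ⟨TateShLib.restrConst g (ZMod n)⟩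
  | succ d ih =>
    obtain ⟨a⟩ := ih
    exact ⟨TateShLib.restrTensor g _ _ ≪≫ TateShLib.tensorIso a (TateShLib.restrMu g n)⟩

end Groth.Agent.SuppCoh
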