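import Groth.Agent.SuppCoh.Groups
import Groth.Prelude.Def_RDer

/-!
The edge map in the first nonvanishing degree, and depth along smaller closed subsets.
-/

set_option autoImplicit false
set_option backward.isDefEq.respectTransparency false
set_option backward.isDefEq.respectTransparency.types false
set_option maxHeartbeats 1000000

universe u

open CategoryTheory CategoryTheory.Limits AlgebraicGeometry Opposite

noncomputable section

namespace Groth.Agent.SuppCoh

universe v v' w w'

section

variable {A : Type w} [Category.{v} A] [Abelian A] {B : Type w'} [Category.{v'} B] [Abelian B]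
  (K : CochainComplex A ℕ) [∀ i, Injective (K.X i)] (N : ℕ)

theorem exists_pseudoInverse_toCycles (h : ∀ p < N, IsZero (K.homology p)) :
    ∃ g, K.toCycles ((ComplexShape.up ℕ).prev N) N ≫ g ≫ K.toCycles ((ComplexShape.up ℕ).prev N) N =
      K.toCycles ((ComplexShape.up ℕ).prev N) N := by
  cases N with
  | zero =>
    have hf : K.toCycles ((ComplexShape.up ℕ).prev 0) 0 = 0 := by
      rw [← cancel_mono (K.iCycles 0), K.toCycles_i, zero_comp]
      exact K.shape _ _ (by simp)
    exact ⟨0, by simp [hf]⟩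
  | succ n =>
    rw [CochainComplex.prev_nat_succ]
    haveI : Injective (kernel (K.toCycles n (n + 1) ≫ K.iCycles (n + 1))) :=
      Injective.of_iso (kernelIsoOfEq (K.toCycles_i n (n + 1)).symm) (injective_kernel_d K (n + 1) h n (Nat.lt_succ_self n))
    haveI : Injective (kernel (K.toCycles n (n + 1))) :=
      Injective.of_iso (kernelCompMono _ (K.iCycles (n + 1))) inferInstance
    exact exists_pseudoInverse _

/-- The homology comparison is an isomorphism in the first nonvanishing degree. -/
theorem isIso_homologyComparison (h : ∀ p < N, IsZero (K.homology p)) (Ψ : A ⥤ B) [Ψ.Additive]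
    [PreservesFiniteLimits Ψ] : IsIso (RDer.homologyComparison Ψ K N) := by
  obtain ⟨g, hg⟩ := exists_pseudoInverse_toCycles K N h
  haveI := preservesColimit_of_pseudoInverse Ψ _ g hg
  let ΨK := (Ψ.mapHomologicalComplex (ComplexShape.up ℕ)).obj K
  haveI : IsIso (RDer.cyclesComparison Ψ K N) := by
    let hK := KernelFork.mapIsLimit _ (K.cyclesIsKernel N ((ComplexShape.up ℕ).next N) rfl) Ψ
    have e : RDer.cyclesComparison Ψ K N =
        ((ΨK.cyclesIsKernel N ((ComplexShape.up ℕ).next N) rfl).conePointUniqueUpToIso hK).hom := rfl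
    rw [e]
    infer_instance
  have hK := (CokernelCofork.isColimitMapCoconeEquiv _ Ψ).1
    (isColimitOfPreserves Ψ (K.homologyIsCokernel ((ComplexShape.up ℕ).prev N) N rfl))
  have hL := ΨK.homologyIsCokernel ((ComplexShape.up ℕ).prev N) N rfl
  have w : Ψ.map (K.toCycles ((ComplexShape.up ℕ).prev N) N) ≫
      inv (RDer.cyclesComparison Ψ K N) ≫ ΨK.homologyπ N = 0 := by
    rw [← RDer.toCycles_cyclesComparison Ψ K N, Category.assoc, IsIso.hom_inv_id_assoc]
    exact ΨK.toCycles_comp_homologyπ _ _
  have hb := hK.fac (CokernelCofork.ofπ _ w) WalkingParallelPair.one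
  have hb' : Ψ.map (K.homologyπ N) ≫ hK.desc (CokernelCofork.ofπ _ w) =
      inv (RDer.cyclesComparison Ψ K N) ≫ ΨK.homologyπ N := hb
  refine ⟨hK.desc (CokernelCofork.ofπ _ w), ?_, ?_⟩
  · refine Cofork.IsColimit.hom_ext hL ?_
    show ΨK.homologyπ N ≫ _ ≫ _ = ΨK.homologyπ N ≫ 𝟙 _
    erw [RDer.homologyπ_homologyComparison_assoc Ψ K N, hb', IsIso.hom_inv_id_assoc, Category.comp_id]
  · refine Cofork.IsColimit.hom_ext hK ?_
    show Ψ.map (K.homologyπ N) ≫ _ ≫ _ = Ψ.map (K.homologyπ N) ≫ 𝟙 _
    erw [reassoc_of% hb', RDer.homologyπ_homologyComparison Ψ K N, IsIso.inv_hom_id_assoc, Category.comp_id]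

end

variable {X U : Scheme.{u}} (j : U ⟶ X)

theorem preservesKernel_secSupp {G H : EtCoh.Ab X} (f : G ⟶ H) :
    PreservesLimit (parallelPair f 0) (EtDual.secSupp j) := by
  haveI : PreservesFiniteLimits (EtCoh.pull j) := S0101.result j
  haveI : (EtCoh.push j).IsRightAdjoint := (EtCoh.pullPushAdj j).isRightAdjoint
  haveI : Mono ((EtCoh.push j).map ((EtCoh.pull j).map (kernel.ι f))) := inferInstance
  haveI : Mono ((EtDual.secSupp j).map (kernel.ι f)) := by
    haveI : Mono ((EtDual.secSupp j).map (kernel.ι f) ≫ kernel.ι (EtDual.unitApp j G)) := by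
      rw [kernel.lift_ι]
      exact mono_comp _ _
    exact mono_of_mono _ (kernel.ι (EtDual.unitApp j G))
  refine preservesLimit_of_preserves_limit_cone (kernelIsKernel f) ((KernelFork.isLimitMapConeEquiv _ _).symm ?_)
  refine KernelFork.IsLimit.ofι' ((EtDual.secSupp j).map (kernel.ι f))
    (by rw [← (EtDual.secSupp j).map_comp, kernel.condition, Functor.map_zero]) (fun {T} k hk => ?_)
  have h1 : (k ≫ kernel.ι (EtDual.unitApp j G)) ≫ f = 0 := by
    have h2 := congrArg (· ≫ kernel.ι (EtDual.unitApp j H)) hk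
    rwa [Category.assoc, kernel.lift_ι, ← Category.assoc, zero_comp] at h2
  refine ⟨kernel.lift _ (kernel.lift f _ h1) ?_, ?_⟩
  · apply (cancel_mono ((EtCoh.push j).map ((EtCoh.pull j).map (kernel.ι f)))).1
    have hn : kernel.ι f ≫ EtDual.unitApp j G =
        EtDual.unitApp j _ ≫ (EtCoh.push j).map ((EtCoh.pull j).map (kernel.ι f)) :=
      (EtCoh.pullPushAdj j).unit.naturality (kernel.ι f)
    rw [Category.assoc, ← hn, kernel.lift_ι_assoc, Category.assoc, kernel.condition, comp_zero, zero_comp]
  · apply (cancel_mono (kernel.ι (EtDual.unitApp j G))).1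
    simp

/-- Depth along a smaller closed subset. -/
theorem isZero_locCoh_of_range_subset [IsOpenImmersion j] {V : Scheme.{u}} (k : V ⟶ X) [IsOpenImmersion k]
    (hUV : Set.range j.base ⊆ Set.range k.base) (F : EtCoh.Ab X) (n : ℕ)
    (h : ∀ p < n, IsZero ((EtDual.locCoh j p).obj F)) (p : ℕ) (hp : p < n) :
    IsZero ((EtDual.locCoh k p).obj F) := by
  let R := InjectiveResolution.of F
  let j' : U ⟶ V := IsOpenImmersion.lift k j hUV
  haveI : IsOpenImmersion j' := by
    haveI : IsOpenImmersion (j' ≫ k) := by rw [IsOpenImmersion.lift_fac]; infer_instance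
    exact IsOpenImmersion.of_comp j' k
  haveI : PreservesFiniteLimits (EtDual.secSupp k) :=
    ((Functor.preservesFiniteLimits_tfae (EtDual.secSupp k)).out 2 3).1 fun _ _ f => preservesKernel_secSupp k f
  haveI : ∀ i, Injective ((((EtDual.secSupp j).mapHomologicalComplex (ComplexShape.up ℕ)).obj R.cocomplex).X i) :=
    fun i => injective_secSupp j (R.cocomplex.X i)
  have hz : ∀ q < n, IsZero ((((EtDual.secSupp j).mapHomologicalComplex (ComplexShape.up ℕ)).obj R.cocomplex).homology q) :=
    fun q hq => (h q hq).of_iso (R.isoRightDerivedObj (EtDual.secSupp j) q).symm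
  obtain ⟨e⟩ := nonempty_homology_map_iso _ p (fun q hq => hz q (by omega)) (EtDual.secSupp k)
  let ec := (NatIso.mapHomologicalComplex (secSuppCompIso j k j' (IsOpenImmersion.lift_fac _ _ hUV))
    (ComplexShape.up ℕ)).app R.cocomplex
  exact ((EtDual.secSupp k).map_isZero (hz p hp)).of_iso
    (R.isoRightDerivedObj (EtDual.secSupp k) p ≪≫ (HomologicalComplex.homologyMapIso ec p).symm ≪≫ e)

end Groth.Agent.SuppCoh
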