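import Mathlib.CategoryTheory.Abelian.Basic
import Mathlib.CategoryTheory.Preadditive.Injective.Basic
import Mathlib.Algebra.Homology.HomologicalComplex
import Mathlib.Algebra.Homology.Additive
import Mathlib.Algebra.Homology.ShortComplex.HomologicalComplex
import Mathlib.Algebra.Homology.ShortComplex.PreservesHomology
import Mathlib.Algebra.Homology.ShortComplex.Exact

/-!
The first nonzero cohomology object of a complex of injectives.

If a cochain complex `K` of injectives is exact in degrees `< N`, then `H^N(Γ K) ≅ Γ(H^N K)` for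
every additive left exact functor `Γ`: the coboundary map into the cocycles of degree `N` has a
pseudo inverse, so its cokernel is absolute.
-/

set_option autoImplicit false

open CategoryTheory CategoryTheory.Limits

noncomputable section

namespace Groth.Agent.SuppCoh

universe v v' w w'

variable {A : Type w} [Category.{v} A] [Abelian A] {B : Type w'} [Category.{v'} B] [Abelian B]

/-- A morphism of an injective object with injective kernel has a pseudo inverse. -/
theorem exists_pseudoInverse {P Q : A} (f : P ⟶ Q) [Injective P] [Injective (kernel f)] :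
    ∃ g : Q ⟶ P, f ≫ g ≫ f = f := by
  let r : P ⟶ kernel f := Injective.factorThru (𝟙 _) (kernel.ι f)
  have hr : kernel.ι f ≫ r = 𝟙 _ := Injective.comp_factorThru _ _
  have h0 : kernel.ι f ≫ (𝟙 P - r ≫ kernel.ι f) = 0 := by
    rw [Preadditive.comp_sub, Category.comp_id, reassoc_of% hr, sub_self]
  let s : Abelian.coimage f ⟶ P := cokernel.desc (kernel.ι f) _ h0
  have hs : Abelian.coimage.π f ≫ s = 𝟙 P - r ≫ kernel.ι f := cokernel.π_desc _ _ _
  let g : Q ⟶ P := Injective.factorThru s (Abelian.factorThruCoimage f)
  have hg : Abelian.factorThruCoimage f ≫ g = s := Injective.comp_factorThru _ _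
  refine ⟨g, ?_⟩
  conv_lhs => arg 1; rw [← Abelian.coimage.fac f]
  rw [Category.assoc, reassoc_of% hg, reassoc_of% hs, Preadditive.sub_comp, Category.id_comp,
    Category.assoc, kernel.condition, comp_zero, sub_zero]

/-- An epimorphism with a pseudo inverse exhibits its target as a retract. -/
theorem injective_of_epi {P Q : A} (f : P ⟶ Q) [Epi f] [Injective P] [Injective (kernel f)] :
    Injective Q := by
  obtain ⟨g, hg⟩ := exists_pseudoInverse f
  have h1 : g ≫ f = 𝟙 Q := by rw [← cancel_epi f, hg, Category.comp_id]
  exact ⟨fun {Y Z} a i hi => ⟨Injective.factorThru (a ≫ g) i ≫ f, by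
    rw [Injective.comp_factorThru_assoc, Category.assoc, h1, Category.comp_id]⟩⟩

/-- A cokernel of a morphism with a pseudo inverse is absolute. -/
theorem preservesColimit_of_pseudoInverse (Γ : A ⥤ B) [Γ.Additive] {P Q : A} (f : P ⟶ Q) (g : Q ⟶ P)
    (h : f ≫ g ≫ f = f) : PreservesColimit (parallelPair f 0) Γ := by
  have h0 : f ≫ (𝟙 Q - g ≫ f) = 0 := by rw [Preadditive.comp_sub, Category.comp_id, h, sub_self]
  let s : cokernel f ⟶ Q := cokernel.desc f _ h0
  have hs : cokernel.π f ≫ s = 𝟙 Q - g ≫ f := cokernel.π_desc _ _ _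
  have hs' : s ≫ cokernel.π f = 𝟙 _ := by
    rw [← cancel_epi (cokernel.π f), reassoc_of% hs, Preadditive.sub_comp, Category.id_comp,
      Category.assoc, cokernel.condition, comp_zero, sub_zero, Category.comp_id]
  refine preservesColimit_of_preserves_colimit_cocone (cokernelIsCokernel f) ?_
  refine (CokernelCofork.isColimitMapCoconeEquiv _ Γ).symm ?_
  refine CokernelCofork.IsColimit.ofπ (Γ.map (cokernel.π f))
    (by rw [← Γ.map_comp, cokernel.condition, Γ.map_zero]) (fun {W} k hk => Γ.map s ≫ k) (fun {W} k hk => ?_)
    (fun {W} k hk m hm => ?_)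
  · erw [← Γ.map_comp_assoc, hs, Γ.map_sub, Γ.map_id, Preadditive.sub_comp, Category.id_comp,
      Γ.map_comp, Category.assoc, hk, comp_zero, sub_zero]
  · erw [← hm, ← Γ.map_comp_assoc, hs', Γ.map_id, Category.id_comp]

variable (K : CochainComplex A ℕ) [∀ i, Injective (K.X i)] (N : ℕ)

/-- The cocycles of an exact range of a complex of injectives are injective. -/
theorem injective_kernel_d (h : ∀ p < N, IsZero (K.homology p)) :
    ∀ p, p < N → Injective (kernel (K.d p (p + 1))) := by
  intro p
  induction p with
  | zero =>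
    intro hp
    refine IsZero.injective ?_
    have e : kernel (K.d 0 1) ≅ K.cycles 0 :=
      IsLimit.conePointUniqueUpToIso (kernelIsKernel _) (K.cyclesIsKernel 0 1 (CochainComplex.next ℕ 0))
    exact (h 0 hp).of_iso (e ≪≫ asIso (K.homologyπ 0))
  | succ p ih =>
    intro hp
    haveI := ih (by omega)
    have hex : (K.sc' p (p + 1) (p + 2)).Exact :=
      (K.exactAt_iff' p (p + 1) (p + 2) (by simp) (by simp)).1
        ((HomologicalComplex.exactAt_iff_isZero_homology _ _).2 (h (p + 1) hp))
    let l : K.X p ⟶ kernel (K.d (p + 1) (p + 2)) := kernel.lift _ (K.d p (p + 1)) (K.d_comp_d _ _ _)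
    haveI : Epi l := hex.epi_kernelLift
    haveI : Injective (kernel (l ≫ kernel.ι (K.d (p + 1) (p + 2)))) :=
      Injective.of_iso (kernelIsoOfEq (kernel.lift_ι _ _ _).symm) (ih (by omega))
    haveI : Injective (kernel l) := Injective.of_iso (kernelCompMono l (kernel.ι _)) inferInstance
    exact injective_of_epi l

/-- `H^N` commutes with additive left exact functors if the complex of injectives is exact below `N`. -/
theorem nonempty_homology_map_iso (h : ∀ p < N, IsZero (K.homology p)) (Γ : A ⥤ B) [Γ.Additive]
    [PreservesFiniteLimits Γ] :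
    Nonempty (((Γ.mapHomologicalComplex (ComplexShape.up ℕ)).obj K).homology N ≅ Γ.obj (K.homology N)) := by
  let hl := (K.sc N).leftHomologyData
  have hreg : ∃ g, hl.f' ≫ g ≫ hl.f' = hl.f' := by
    cases N with
    | zero =>
      have hf : hl.f' = 0 := by
        rw [← cancel_mono hl.i, hl.f'_i, zero_comp]
        exact K.shape _ _ (by simp)
      exact ⟨0, by simp [hf]⟩
    | succ n =>
      haveI : Injective (K.sc (n + 1)).X₁ := inferInstanceAs (Injective (K.X _))
      haveI : Injective (kernel (hl.f' ≫ hl.i)) := by
        refine Injective.of_iso (kernelIsoOfEq hl.f'_i.symm) ?_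
        change Injective (kernel (K.d ((ComplexShape.up ℕ).prev (n + 1)) (n + 1)))
        rw [CochainComplex.prev_nat_succ]
        exact injective_kernel_d K (n + 1) h n (Nat.lt_succ_self n)
      haveI : Injective (kernel hl.f') := Injective.of_iso (kernelCompMono hl.f' hl.i) inferInstance
      exact exists_pseudoInverse _
  obtain ⟨g, hg⟩ := hreg
  haveI : hl.IsPreservedBy Γ :=
    { g := inferInstance
      f' := preservesColimit_of_pseudoInverse Γ hl.f' g hg }
  exact ⟨((hl.map Γ).homologyIso : ((K.sc N).map Γ).homology ≅ _) ≪≫ Γ.mapIso hl.homologyIso.symm⟩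

end Groth.Agent.SuppCoh
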